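import Mathlib
import Groth.Prelude
import Groth.Agent.Lib.Helper8.LocalIso
import Groth.Agent.Lib.Helper8.NormNormal.Main

/-!
# The canonical morphism to the relative normalization is a local isomorphism (helper8, S4810)

`X` integral normal, `f : X ⟶ Y` dominant locally quasi-finite (qcqs) to an integral scheme:
`f.toNormalization` is birational, hence (Zariski's main theorem, `LocalIso.isLocalIso_of_birational`)
a local isomorphism.
-/

set_option autoImplicit false
universe u
open CategoryTheory CategoryTheory.Limits AlgebraicGeometry TopologicalSpace Opposite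

namespace Groth.Agent.H8.NormLocIso

open Groth.Agent.H8.NormNormal

/-- A dominant morphism of irreducible schemes maps the generic point to the generic point. -/
lemma map_genericPoint_of_isDominant {X Y : Scheme.{u}} [IrreducibleSpace X] [IrreducibleSpace Y]
    (f : X ⟶ Y) [IsDominant f] : f (genericPoint X) = genericPoint Y := by
  have h1 : IsGenericPoint (f (genericPoint X)) (closure (f '' Set.univ)) :=
    (genericPoint_spec X).image f.continuous
  have h2 : closure (f '' Set.univ) = Set.univ := by
    rw [Set.image_univ]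
    exact f.denseRange.closure_range
  rw [h2] at h1
  exact h1.eq (genericPoint_spec Y)

lemma isArtinianRing_stalk_of_eq {Y : Scheme.{u}} [IsIntegral Y] (y : Y)
    (h : y = genericPoint Y) : IsArtinianRing (Y.presheaf.stalk y) := by
  subst h
  exact inferInstanceAs (IsArtinianRing Y.functionField)

/-- Quasi-finiteness at the generic point: every element of the function field of `X` has a
nonzero multiple by a section over an affine open of `Y` which is integral over these sections. -/
theorem exists_mul_integral {X Y : Scheme.{u}} [IsIntegral X] (f : X ⟶ Y)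
    (hqf : f.QuasiFiniteAt (genericPoint X))
    [IsArtinianRing (Y.presheaf.stalk (f (genericPoint X)))]
    {U : Y.Opens} (hU : IsAffineOpen U) (hηU : f (genericPoint X) ∈ U)
    (ξ : X.presheaf.stalk (genericPoint X)) :
    ∃ m : Γ(Y, U),
      (X.presheaf.germ (f ⁻¹ᵁ U) (genericPoint X) hηU).hom ((f.app U).hom m) ≠ 0 ∧
      ((X.presheaf.germ (f ⁻¹ᵁ U) (genericPoint X) hηU).hom.comp (f.app U).hom).IsIntegralElem
        ((X.presheaf.germ (f ⁻¹ᵁ U) (genericPoint X) hηU).hom ((f.app U).hom m) * ξ) := by
  letI algK : Algebra (Y.presheaf.stalk (f (genericPoint X))) (X.presheaf.stalk (genericPoint X)) :=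
    (f.stalkMap (genericPoint X)).hom.toAlgebra
  haveI hQF : Algebra.QuasiFinite (Y.presheaf.stalk (f (genericPoint X)))
      (X.presheaf.stalk (genericPoint X)) := hqf
  haveI hfin : Module.Finite (Y.presheaf.stalk (f (genericPoint X)))
      (X.presheaf.stalk (genericPoint X)) := Module.Finite.of_quasiFinite
  have hint : IsIntegral (Y.presheaf.stalk (f (genericPoint X))) ξ :=
    Algebra.IsIntegral.isIntegral ξ
  letI algA : Algebra Γ(Y, U) (Y.presheaf.stalk (f (genericPoint X))) :=
    Y.presheaf.algebra_section_stalk ⟨f (genericPoint X), hηU⟩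
  haveI hloc := hU.isLocalization_stalk ⟨f (genericPoint X), hηU⟩
  letI algAL : Algebra Γ(Y, U) (X.presheaf.stalk (genericPoint X)) :=
    ((f.stalkMap (genericPoint X)).hom.comp
      (Y.presheaf.germ U (f (genericPoint X)) hηU).hom).toAlgebra
  haveI : IsScalarTower Γ(Y, U) (Y.presheaf.stalk (f (genericPoint X)))
      (X.presheaf.stalk (genericPoint X)) := IsScalarTower.of_algebraMap_eq (fun _ => rfl)
  obtain ⟨m, hm⟩ := IsIntegral.exists_multiple_integral_of_isLocalization
    (hU.primeIdealOf ⟨f (genericPoint X), hηU⟩).asIdeal.primeCompl ξ hint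
  have hcomp : (f.stalkMap (genericPoint X)).hom.comp
      (Y.presheaf.germ U (f (genericPoint X)) hηU).hom =
      (X.presheaf.germ (f ⁻¹ᵁ U) (genericPoint X) hηU).hom.comp (f.app U).hom := by
    rw [← CommRingCat.hom_comp, ← CommRingCat.hom_comp, Scheme.Hom.germ_stalkMap]
  have h1 : algebraMap Γ(Y, U) (X.presheaf.stalk (genericPoint X)) =
      (X.presheaf.germ (f ⁻¹ᵁ U) (genericPoint X) hηU).hom.comp (f.app U).hom := hcomp
  have h2 : m • ξ =
      (X.presheaf.germ (f ⁻¹ᵁ U) (genericPoint X) hηU).hom ((f.app U).hom m.1) * ξ := by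
    rw [Submonoid.smul_def, Algebra.smul_def, h1]
    rfl
  refine ⟨m.1, ?_, ?_⟩
  · have hu : IsUnit (algebraMap Γ(Y, U) (Y.presheaf.stalk (f (genericPoint X))) m.1) :=
      IsLocalization.map_units (Y.presheaf.stalk (f (genericPoint X))) m
    have hu2 : IsUnit ((f.stalkMap (genericPoint X)).hom
        (algebraMap Γ(Y, U) (Y.presheaf.stalk (f (genericPoint X))) m.1)) := hu.map _
    have e : (f.stalkMap (genericPoint X)).hom
        (algebraMap Γ(Y, U) (Y.presheaf.stalk (f (genericPoint X))) m.1) =
        (X.presheaf.germ (f ⁻¹ᵁ U) (genericPoint X) hηU).hom ((f.app U).hom m.1) :=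
      RingHom.congr_fun hcomp m.1
    rw [e] at hu2
    exact hu2.ne_zero
  · rw [← h2, ← h1]
    exact hm

/-- On a normal integral scheme, an element of the function field which is integral over a ring
mapping to the sections over an open `V` is (the germ of) a section over `V`, integral over that
ring. -/
theorem exists_section_of_integral {X : Scheme.{u}} [IsIntegral X]
    (hN : ∀ x : X, IsIntegrallyClosed (X.presheaf.stalk x))
    (V : X.Opens) (hηV : genericPoint X ∈ V) {A : Type u} [CommRing A] (φ : A →+* Γ(X, V))
    (β : X.presheaf.stalk (genericPoint X))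
    (hβ : ((X.presheaf.germ V (genericPoint X) hηV).hom.comp φ).IsIntegralElem β) :
    ∃ σ : Γ(X, V), (X.presheaf.germ V (genericPoint X) hηV).hom σ = β ∧ φ.IsIntegralElem σ := by
  have hspec : ∀ x : X, genericPoint X ⤳ x := fun x => (genericPoint_spec X).specializes trivial
  have hgermη : ∀ (U' : X.Opens) (w : X) (hw : w ∈ U') (s : Γ(X, U')),
      algebraMap (X.presheaf.stalk w) X.functionField (gm U' w hw s) =
        (X.presheaf.germ U' (genericPoint X) ((hspec w).mem_open U'.isOpen hw)).hom s := by
    intro U' w hw s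
    change (X.presheaf.stalkSpecializes (hspec w)).hom ((X.presheaf.germ U' w hw).hom s) = _
    rw [← X.presheaf.germ_stalkSpecializes hw (hspec w)]
    rfl
  obtain ⟨p, hp, hpβ⟩ := hβ
  have hmem : ∀ (x : X) (_ : x ∈ V), ∃ t : X.presheaf.stalk x,
      algebraMap (X.presheaf.stalk x) X.functionField t = β := by
    intro x hx
    haveI := hN x
    have hint : IsIntegral (X.presheaf.stalk x) (β : X.functionField) := by
      refine ⟨p.map ((X.presheaf.germ V x hx).hom.comp φ), hp.map _, ?_⟩
      rw [Polynomial.eval₂_map]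
      have hc : (algebraMap (X.presheaf.stalk x) X.functionField).comp
          ((X.presheaf.germ V x hx).hom.comp φ) =
          (X.presheaf.germ V (genericPoint X) hηV).hom.comp φ := by
        ext a
        exact hgermη V x hx (φ a)
      rw [hc]
      exact hpβ
    exact IsIntegrallyClosed.algebraMap_eq_of_integral hint
  choose t ht using hmem
  have hinjx : ∀ x : X, Function.Injective (algebraMap (X.presheaf.stalk x) X.functionField) :=
    fun x => IsFractionRing.injective _ _
  obtain ⟨σ, hσ⟩ := exists_section_of_germs V t (by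
    intro v hv
    obtain ⟨U₁, hvU₁, s₁, hs₁⟩ := X.presheaf.exists_germ_eq (t v hv)
    refine ⟨U₁ ⊓ V, inf_le_right, ⟨hvU₁, hv⟩, X.presheaf.map (homOfLE inf_le_left).op s₁, ?_⟩
    intro w hw
    apply hinjx w
    have e1 := hgermη (U₁ ⊓ V) w hw (X.presheaf.map (homOfLE inf_le_left).op s₁)
    have e2 : algebraMap (X.presheaf.stalk v) X.functionField (t v hv) =
        (X.presheaf.germ U₁ (genericPoint X) ((hspec v).mem_open U₁.isOpen hvU₁)).hom s₁ := by
      rw [← hs₁]
      exact hgermη U₁ v hvU₁ s₁
    have e3 : (X.presheaf.germ (U₁ ⊓ V) (genericPoint X)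
        ((hspec w).mem_open (U₁ ⊓ V).isOpen hw)).hom
        (X.presheaf.map (homOfLE (inf_le_left : U₁ ⊓ V ≤ U₁)).op s₁) =
        (X.presheaf.germ U₁ (genericPoint X) ((hspec v).mem_open U₁.isOpen hvU₁)).hom s₁ :=
      gm_res (homOfLE (inf_le_left : U₁ ⊓ V ≤ U₁)) (genericPoint X) _ s₁
    rw [ht w hw.2, e1, e3, ← e2, ht v hv])
  have hση : (X.presheaf.germ V (genericPoint X) hηV).hom σ = β := by
    have e1 := hgermη V (genericPoint X) hηV σ
    have e2 := ht (genericPoint X) hηV
    rw [← hσ (genericPoint X) hηV] at e2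
    exact e1.symm.trans e2
  refine ⟨σ, hση, p, hp, ?_⟩
  apply germ_injective_of_isIntegral X (genericPoint X) hηV
  have h3 : (X.presheaf.germ V (genericPoint X) hηV).hom (Polynomial.eval₂ φ σ p) =
      Polynomial.eval₂ ((X.presheaf.germ V (genericPoint X) hηV).hom.comp φ)
        ((X.presheaf.germ V (genericPoint X) hηV).hom σ) p := Polynomial.hom_eval₂ _ _ _ _
  rw [hση, hpβ] at h3
  exact h3.trans (map_zero _).symm

/-- Birationality criterion on a good chart. -/
theorem stalkMap_bijective {X N : Scheme.{u}} [IsIntegral X] (ν : X ⟶ N) (W : N.Opens)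
    (hW : GoodChart ν W) (hηW : ν (genericPoint X) ∈ W)
    (H : ∀ ξ : X.presheaf.stalk (genericPoint X), ∃ c : Γ(N, W),
      (X.presheaf.germ (ν ⁻¹ᵁ W) (genericPoint X) hηW).hom ((ν.app W).hom c) ≠ 0 ∧
      ∃ σ : Γ(X, ν ⁻¹ᵁ W), (ν.app W).hom.IsIntegralElem σ ∧
        (X.presheaf.germ (ν ⁻¹ᵁ W) (genericPoint X) hηW).hom σ =
          (X.presheaf.germ (ν ⁻¹ᵁ W) (genericPoint X) hηW).hom ((ν.app W).hom c) * ξ) :
    Function.Bijective (ν.stalkMap (genericPoint X)).hom := by
  obtain ⟨hWaff, -, hinj, hcl⟩ := hW
  have hgs : ∀ c : Γ(N, W), (ν.stalkMap (genericPoint X)).hom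
      ((N.presheaf.germ W (ν (genericPoint X)) hηW).hom c) =
      (X.presheaf.germ (ν ⁻¹ᵁ W) (genericPoint X) hηW).hom ((ν.app W).hom c) := fun c =>
    Scheme.Hom.germ_stalkMap_apply ν W (genericPoint X) hηW c
  have hginj := germ_injective_of_isIntegral X (genericPoint X) (U := ν ⁻¹ᵁ W) hηW
  letI := N.presheaf.algebra_section_stalk ⟨ν (genericPoint X), hηW⟩
  haveI hloc := hWaff.isLocalization_stalk ⟨ν (genericPoint X), hηW⟩
  constructor
  · rw [injective_iff_map_eq_zero]
    intro z hz
    obtain ⟨⟨c, s⟩, hcs⟩ := IsLocalization.surj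
      (hWaff.primeIdealOf ⟨ν (genericPoint X), hηW⟩).asIdeal.primeCompl z
    have h1 : (ν.stalkMap (genericPoint X)).hom
        ((N.presheaf.germ W (ν (genericPoint X)) hηW).hom c) = 0 := by
      have : (N.presheaf.germ W (ν (genericPoint X)) hηW).hom c =
          z * algebraMap Γ(N, W) (N.presheaf.stalk (ν (genericPoint X))) s.1 := hcs.symm
      rw [this, map_mul, hz, zero_mul]
    have h2 : c = 0 := by
      apply hinj
      rw [map_zero]
      apply hginj
      exact ((hgs c).symm.trans h1).trans (map_zero _).symm
    have h3 : IsUnit (algebraMap Γ(N, W) (N.presheaf.stalk (ν (genericPoint X))) s.1) :=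
      IsLocalization.map_units _ s
    have h4 : z * algebraMap Γ(N, W) (N.presheaf.stalk (ν (genericPoint X))) s.1 = 0 := by
      have h5 : z * algebraMap Γ(N, W) (N.presheaf.stalk (ν (genericPoint X))) s.1 =
          algebraMap Γ(N, W) (N.presheaf.stalk (ν (genericPoint X))) c := hcs
      rw [h5, h2, map_zero]
    exact h3.mul_left_eq_zero.mp h4
  · intro ξ
    obtain ⟨c, hc0, σ, hσint, hσ⟩ := H ξ
    obtain ⟨d, hd⟩ := hcl σ hσint
    have hunit : IsUnit ((N.presheaf.germ W (ν (genericPoint X)) hηW).hom c) := by
      apply isUnit_of_map_unit (ν.stalkMap (genericPoint X)).hom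
      rw [hgs c]
      exact (isUnit_iff_ne_zero (G₀ := X.functionField)).mpr hc0
    obtain ⟨u, hu⟩ := hunit
    refine ⟨(N.presheaf.germ W (ν (genericPoint X)) hηW).hom d * ↑u⁻¹, ?_⟩
    have e1 : (ν.stalkMap (genericPoint X)).hom
        ((N.presheaf.germ W (ν (genericPoint X)) hηW).hom d) =
        (ν.stalkMap (genericPoint X)).hom (↑u) * ξ := by
      rw [hgs d, hd, hσ, hu, hgs c]
    rw [map_mul, e1, mul_comm _ ξ, mul_assoc, ← map_mul, Units.mul_inv, map_one, mul_one]

/-- The canonical morphism to the relative normalization is birational. -/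
theorem isIso_stalkMap_toNormalization {X Y : Scheme.{u}} [IsIntegral X] [IsIntegral Y]
    (hN : ∀ x : X, IsIntegrallyClosed (X.presheaf.stalk x)) (f : X ⟶ Y) [IsDominant f]
    [LocallyQuasiFinite f] [LocallyOfFiniteType f] [QuasiCompact f] [QuasiSeparated f] :
    IsIso (f.toNormalization.stalkMap (genericPoint X)) := by
  have hνπ : f.toNormalization ≫ f.fromNormalization = f := f.toNormalization_fromNormalization
  have hdom : IsDominant (f.toNormalization ≫ f.fromNormalization) := by rw [hνπ]; infer_instance
  have hgenY : (f.toNormalization ≫ f.fromNormalization) (genericPoint X) = genericPoint Y :=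
    map_genericPoint_of_isDominant _
  haveI := isArtinianRing_stalk_of_eq _ hgenY
  have hqf : (f.toNormalization ≫ f.fromNormalization).QuasiFiniteAt (genericPoint X) := by
    rw [hνπ]
    exact f.quasiFiniteAt (genericPoint X)
  obtain ⟨U, hU, hηU, -⟩ := exists_isAffineOpen_mem_and_subset
    (x := (f.toNormalization ≫ f.fromNormalization) (genericPoint X)) (U := ⊤) trivial
  have hgood : GoodChart f.toNormalization (f.fromNormalization ⁻¹ᵁ U) :=
    goodChart_normalization f hU
  have hηW : f.toNormalization (genericPoint X) ∈ f.fromNormalization ⁻¹ᵁ U := hηU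
  have key : ∀ a : Γ(Y, U), ((f.toNormalization ≫ f.fromNormalization).app U).hom a =
      (f.toNormalization.app (f.fromNormalization ⁻¹ᵁ U)).hom
        ((f.fromNormalization.app U).hom a) := by
    intro a
    rw [Scheme.Hom.comp_app]
    rfl
  have hbij := stalkMap_bijective f.toNormalization (f.fromNormalization ⁻¹ᵁ U) hgood hηW (by
    intro ξ
    obtain ⟨m, hm0, hmint⟩ := exists_mul_integral (f.toNormalization ≫ f.fromNormalization) hqf
      hU hηU ξ
    obtain ⟨σ, hσ, hσint⟩ := exists_section_of_integral hN
      ((f.toNormalization ≫ f.fromNormalization) ⁻¹ᵁ U) hηU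
      ((f.toNormalization ≫ f.fromNormalization).app U).hom _ hmint
    refine ⟨(f.fromNormalization.app U).hom m, ?_, σ, ?_, ?_⟩
    · rw [← key]
      exact hm0
    · obtain ⟨p, hp, hpσ⟩ := hσint
      refine ⟨p.map (f.fromNormalization.app U).hom, hp.map _, ?_⟩
      rw [Polynomial.eval₂_map]
      have hc : (f.toNormalization.app (f.fromNormalization ⁻¹ᵁ U)).hom.comp
          (f.fromNormalization.app U).hom =
          ((f.toNormalization ≫ f.fromNormalization).app U).hom := by
        ext a
        exact (key a).symm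
      rw [hc]
      exact hpσ
    · rw [← key]
      exact hσ)
  exact (ConcreteCategory.isIso_iff_bijective _).mpr hbij

/-- **S4810.** -/
theorem main {X Y : Scheme.{u}} [IsIntegral X] [IsIntegral Y]
    (hN : ∀ x : X, IsIntegrallyClosed (X.presheaf.stalk x)) (f : X ⟶ Y) [IsDominant f]
    [LocallyQuasiFinite f] [LocallyOfFiniteType f] [QuasiCompact f] [QuasiSeparated f] :
    IsLocalIso f.toNormalization ∧ (IsOpenImmersion f.toNormalization ↔ IsSeparated f) := by
  have hνπ : f.toNormalization ≫ f.fromNormalization = f := f.toNormalization_fromNormalization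
  have hX : Pi1.IsNormalScheme X := fun x => ⟨inferInstance, hN x⟩
  have hfinset : (irreducibleComponents X).Finite := by
    rw [irreducibleComponents_eq_singleton]
    exact Set.finite_singleton _
  haveI : Finite (irreducibleComponents X) := hfinset.to_subtype
  have hfin : LocallyFinite (fun Z : irreducibleComponents X => (Z : Set X)) :=
    locallyFinite_of_finite _
  have hNn : Pi1.IsNormalScheme f.normalization := (main_S9673 f hX hfin).1
  haveI : LocallyOfFiniteType (f.toNormalization ≫ f.fromNormalization) := by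
    rw [hνπ]; infer_instance
  haveI : LocallyQuasiFinite (f.toNormalization ≫ f.fromNormalization) := by
    rw [hνπ]; infer_instance
  haveI : LocallyOfFiniteType f.toNormalization :=
    locallyOfFiniteType_of_comp f.toNormalization f.fromNormalization
  haveI : LocallyQuasiFinite f.toNormalization :=
    LocallyQuasiFinite.of_comp f.toNormalization f.fromNormalization
  have hgen : f.toNormalization (genericPoint X) = genericPoint f.normalization :=
    map_genericPoint_of_isDominant _
  have hbir := isIso_stalkMap_toNormalization hN f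
  have hmain := LocalIso.isLocalIso_of_birational (fun y => (hNn y).2) f.toNormalization hgen hbir
  refine ⟨hmain.1, fun hoi => ?_, fun hsep => hmain.2 ?_⟩
  · rw [← hνπ]
    haveI : IsSeparated f.fromNormalization := IsSeparated.of_isAffineHom _
    infer_instance
  · have : IsSeparated (f.toNormalization ≫ f.fromNormalization) := by rw [hνπ]; exact hsep
    exact IsSeparated.of_comp f.toNormalization f.fromNormalization

end Groth.Agent.H8.NormLocIso
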